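import Groth.Agent.Divis.CartierStalk
import Groth.Agent.Sga5.H854.Ram
import Mathlib.AlgebraicGeometry.Morphisms.ClosedImmersion
import Mathlib.AlgebraicGeometry.IdealSheaf.Functorial
import Mathlib.AlgebraicGeometry.Noetherian

/-!
# The coincidence scheme of two morphisms

For `c₁ c₂ : A ⟶ X` over `T` (`X` separated over `T`), `D f c₁ c₂ w` is the inverse image of the ideal of the diagonal of
`X` over `T` under `(c₁, c₂)`.

* `comap_eq_bot_iff`: `g : B ⟶ A` factors through it iff `g ≫ c₁ = g ≫ c₂`;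
* `ideal c₁ c₂ h₁ h₂`: for `c₁ y = x = c₂ y`, the ideal of `O_{A,y}` generated by the `c₁^* a - c₂^* a`, `a ∈ O_{X,x}`;
* `stalkIdeal_D`: the stalk of `D f c₁ c₂ w` at `y` is `ideal c₁ c₂ h₁ h₂`;
* `D_ne_bot`: it is not zero if `c₁ ≠ c₂`.
-/

set_option autoImplicit false
universe u
open CategoryTheory CategoryTheory.Limits AlgebraicGeometry Opposite TopologicalSpace

namespace Groth.Agent.Sga5.H844.Coinc

open Groth.Agent.Divis.CartierBasic Groth.Agent.Divis.CartierStalk Groth.Agent.Sga5.H854.Ram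

variable {A X T B : Scheme.{u}}

/-- The ideal of `O_{A,y}` generated by the elements `c₁^* a - c₂^* a`. -/
noncomputable def ideal (c₁ c₂ : A ⟶ X) {y : A} {x : X} (h₁ : c₁ y = x) (h₂ : c₂ y = x) :
    Ideal (A.presheaf.stalk y) :=
  Ideal.span (Set.range fun a : X.presheaf.stalk x => (sk c₁ h₁).hom a - (sk c₂ h₂).hom a)

theorem sub_mem_ideal (c₁ c₂ : A ⟶ X) {y : A} {x : X} (h₁ : c₁ y = x) (h₂ : c₂ y = x)
    (a : X.presheaf.stalk x) : (sk c₁ h₁).hom a - (sk c₂ h₂).hom a ∈ ideal c₁ c₂ h₁ h₂ :=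
  Ideal.subset_span ⟨a, rfl⟩

theorem ideal_le_iff (c₁ c₂ : A ⟶ X) {y : A} {x : X} (h₁ : c₁ y = x) (h₂ : c₂ y = x)
    (J : Ideal (A.presheaf.stalk y)) :
    ideal c₁ c₂ h₁ h₂ ≤ J ↔ ∀ a, (sk c₁ h₁).hom a - (sk c₂ h₂).hom a ∈ J := by
  rw [ideal, Ideal.span_le]
  exact ⟨fun h a => h ⟨a, rfl⟩, fun h _ ⟨a, ha⟩ => ha ▸ h a⟩

theorem ideal_symm (c₁ c₂ : A ⟶ X) {y : A} {x : X} (h₁ : c₁ y = x) (h₂ : c₂ y = x) :
    ideal c₁ c₂ h₁ h₂ = ideal c₂ c₁ h₂ h₁ := by
  apply le_antisymm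
  · rw [ideal_le_iff]
    intro a
    rw [← neg_sub]
    exact neg_mem (sub_mem_ideal c₂ c₁ h₂ h₁ a)
  · rw [ideal_le_iff]
    intro a
    rw [← neg_sub]
    exact neg_mem (sub_mem_ideal c₁ c₂ h₁ h₂ a)

/-- The coincidence ideal sheaf. -/
noncomputable def D (f : X ⟶ T) (c₁ c₂ : A ⟶ X) (w : c₁ ≫ f = c₂ ≫ f) : A.IdealSheafData :=
  (pullback.diagonal f).ker.comap (pullback.lift c₁ c₂ w)

theorem comap_ker_self {Y Z : Scheme.{u}} (i : Y ⟶ Z) : i.ker.comap i = ⊥ := by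
  rw [← le_bot_iff, ← Scheme.IdealSheafData.le_map_iff_comap_le, Scheme.IdealSheafData.map_bot]

theorem comap_subschemeι (I : A.IdealSheafData) : I.comap I.subschemeι = ⊥ := by
  have := comap_ker_self I.subschemeι
  rwa [Scheme.IdealSheafData.ker_subschemeι] at this

theorem le_ker_iff (I : A.IdealSheafData) (g : B ⟶ A) : I ≤ g.ker ↔ I.comap g = ⊥ := by
  rw [← Scheme.IdealSheafData.map_bot, Scheme.IdealSheafData.le_map_iff_comap_le, le_bot_iff]

variable (f : X ⟶ T) [IsSeparated f] (c₁ c₂ : A ⟶ X) (w : c₁ ≫ f = c₂ ≫ f)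

/-- The universal property of the coincidence scheme. -/
theorem comap_eq_bot_iff (g : B ⟶ A) : (D f c₁ c₂ w).comap g = ⊥ ↔ g ≫ c₁ = g ≫ c₂ := by
  rw [D, ← Scheme.IdealSheafData.comap_comp]
  constructor
  · intro h
    rw [← le_ker_iff] at h
    have h1 := IsClosedImmersion.lift_fac (pullback.diagonal f) (g ≫ pullback.lift c₁ c₂ w) h
    set l := IsClosedImmersion.lift (pullback.diagonal f) (g ≫ pullback.lift c₁ c₂ w) h
    have h2 : l = g ≫ c₁ := by
      have h4 := congrArg (· ≫ pullback.fst f f) h1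
      exact (Category.comp_id l).symm.trans ((congrArg (l ≫ ·) (pullback.diagonal_fst f)).symm.trans
        ((Category.assoc _ _ _).symm.trans (h4.trans ((Category.assoc _ _ _).trans
          (congrArg (g ≫ ·) (pullback.lift_fst _ _ _))))))
    have h3 : l = g ≫ c₂ := by
      have h4 := congrArg (· ≫ pullback.snd f f) h1
      exact (Category.comp_id l).symm.trans ((congrArg (l ≫ ·) (pullback.diagonal_snd f)).symm.trans
        ((Category.assoc _ _ _).symm.trans (h4.trans ((Category.assoc _ _ _).trans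
          (congrArg (g ≫ ·) (pullback.lift_snd _ _ _))))))
    rw [← h2, h3]
  · intro h
    have h1 : g ≫ pullback.lift c₁ c₂ w = (g ≫ c₁) ≫ pullback.diagonal f := by
      apply pullback.hom_ext
      · exact (Category.assoc _ _ _).trans ((congrArg (g ≫ ·) (pullback.lift_fst _ _ _)).trans
          ((Category.comp_id _).symm.trans ((congrArg ((g ≫ c₁) ≫ ·) (pullback.diagonal_fst f)).symm.trans
            (Category.assoc _ _ _).symm)))
      · exact (Category.assoc _ _ _).trans ((congrArg (g ≫ ·) (pullback.lift_snd _ _ _)).trans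
          (h.symm.trans ((Category.comp_id _).symm.trans
            ((congrArg ((g ≫ c₁) ≫ ·) (pullback.diagonal_snd f)).symm.trans (Category.assoc _ _ _).symm))))
    rw [h1, Scheme.IdealSheafData.comap_comp, comap_ker_self, Scheme.IdealSheafData.comap_bot]

theorem D_ne_bot (h : c₁ ≠ c₂) : D f c₁ c₂ w ≠ ⊥ := by
  intro h0
  apply h
  have := (comap_eq_bot_iff f c₁ c₂ w (𝟙 A)).1 (by rw [Scheme.IdealSheafData.comap_id, h0])
  simpa using this

section stalk

variable {y : A} {x : X} (h₁ : c₁ y = x) (h₂ : c₂ y = x)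

theorem ideal_le_stalkIdeal : ideal c₁ c₂ h₁ h₂ ≤ stalkIdeal (D f c₁ c₂ w) y := by
  by_cases hy : y ∈ (D f c₁ c₂ w).support
  · obtain ⟨d, hd⟩ := exists_subscheme_apply_eq _ hy
    have h3 : (D f c₁ c₂ w).subschemeι ≫ c₁ = (D f c₁ c₂ w).subschemeι ≫ c₂ :=
      (comap_eq_bot_iff f c₁ c₂ w _).1 (comap_subschemeι _)
    subst hd
    rw [ideal_le_iff]
    intro a
    rw [← ker_stalkMap_subschemeι, RingHom.mem_ker, map_sub, sub_eq_zero]
    have h4 := sk_comp (D f c₁ c₂ w).subschemeι c₁ (x := d) rfl h₁ h₁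
    have h5 := sk_comp (D f c₁ c₂ w).subschemeι c₂ (x := d) rfl h₂ h₂
    rw [sk_rfl] at h4 h5
    have h6 := h4.symm.trans ((sk_congr h3 h₁ h₂).trans h5)
    exact congrArg (fun φ => φ.hom a) h6
  · rw [(notMem_support_iff_stalkIdeal_eq_top _ _).1 hy]
    exact le_top

/-- `Spec (O_y / q) ⟶ Y`. -/
noncomputable def zq {Y : Scheme.{u}} (x : Y) (q : Ideal (Y.presheaf.stalk x)) :
    Spec (CommRingCat.of (Y.presheaf.stalk x ⧸ q)) ⟶ Y :=
  Spec.map (CommRingCat.ofHom (Ideal.Quotient.mk q)) ≫ Y.fromSpecStalk x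

theorem zq_comp {y : A} (q : Ideal (A.presheaf.stalk y)) (c : A ⟶ X) {x : X} (h : c y = x) :
    zq y q ≫ c = Spec.map (sk c h ≫ CommRingCat.ofHom (Ideal.Quotient.mk q)) ≫ X.fromSpecStalk x := by
  subst h
  rw [sk_rfl, zq, Category.assoc, ← Scheme.SpecMap_stalkMap_fromSpecStalk, Spec.map_comp,
    Category.assoc]
  rfl

theorem zq_preimage {Y : Scheme.{u}} (x : Y) (q : Ideal (Y.presheaf.stalk x)) {V : Y.Opens} (hx : x ∈ V) :
    (zq x q) ⁻¹ᵁ V = ⊤ := by
  rw [eq_top_iff]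
  intro w _
  have h1 : (Y.fromSpecStalk x) (Spec.map (CommRingCat.ofHom (Ideal.Quotient.mk q)) w) ⤳ x := by
    have h2 : (Y.fromSpecStalk x) (Spec.map (CommRingCat.ofHom (Ideal.Quotient.mk q)) w) ∈
      Set.range (Y.fromSpecStalk x) := ⟨_, rfl⟩
    rwa [Scheme.range_fromSpecStalk] at h2
  exact h1.mem_open V.2 hx

theorem zq_app_eq_zero_iff {Y : Scheme.{u}} (x : Y) (q : Ideal (Y.presheaf.stalk x)) {V : Y.Opens}
    (hx : x ∈ V) (a : Γ(Y, V)) :
    (zq x q).app V a = 0 ↔ Y.presheaf.germ V x hx a ∈ q := by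
  have h1 : (zq x q).app V = Y.presheaf.germ V x hx ≫
      CommRingCat.ofHom (Ideal.Quotient.mk q) ≫
        (Scheme.ΓSpecIso (CommRingCat.of (Y.presheaf.stalk x ⧸ q))).inv ≫
          (Spec (CommRingCat.of (Y.presheaf.stalk x ⧸ q))).presheaf.map
            (homOfLE (le_top : (zq x q) ⁻¹ᵁ V ≤ ⊤)).op := by
    rw [zq, Scheme.Hom.comp_app, Scheme.fromSpecStalk_app hx]
    simp only [Category.assoc]
    congr 1
    rw [Scheme.Hom.naturality, ← Category.assoc, ← Category.assoc]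
    erw [← Scheme.ΓSpecIso_inv_naturality]
    rfl
  have h2 : Function.Injective ((Scheme.ΓSpecIso (CommRingCat.of (Y.presheaf.stalk x ⧸ q))).inv ≫
          (Spec (CommRingCat.of (Y.presheaf.stalk x ⧸ q))).presheaf.map
            (homOfLE (le_top : (zq x q) ⁻¹ᵁ V ≤ ⊤)).op) := by
    have h3 : IsIso (homOfLE (le_top : (zq x q) ⁻¹ᵁ V ≤ ⊤)) :=
      ⟨homOfLE (zq_preimage x q hx).ge, rfl, rfl⟩
    exact (ConcreteCategory.bijective_of_isIso _).1
  rw [h1]
  have h4 := map_eq_zero_iff _ h2 (x := Ideal.Quotient.mk q (Y.presheaf.germ V x hx a))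
  rw [← Ideal.Quotient.eq_zero_iff_mem]
  exact h4

/-- An ideal sheaf pulling back to zero on `Spec (O_y / q)` has its stalk inside `q`. -/
theorem stalkIdeal_le_of_comap_zq [IsLocallyNoetherian A] (I : A.IdealSheafData) (y : A)
    (q : Ideal (A.presheaf.stalk y)) (h : I.comap (zq y q) = ⊥) : stalkIdeal I y ≤ q := by
  have hN : IsNoetherianRing (A.presheaf.stalk y) := inferInstance
  have hN' : IsNoetherianRing (A.presheaf.stalk y ⧸ q) := inferInstance
  have hN2 : IsNoetherianRing (CommRingCat.of (A.presheaf.stalk y ⧸ q)) := hN'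
  have hqc : QuasiCompact (zq y q) := inferInstance
  obtain ⟨U, hU⟩ := exists_affine y
  rw [stalkIdeal_eq I U hU, Ideal.map_le_iff_le_comap]
  intro b hb
  rw [← le_ker_iff] at h
  have h1 := h U hb
  rw [Scheme.Hom.ker_apply, RingHom.mem_ker] at h1
  exact (zq_app_eq_zero_iff y q hU b).1 h1

theorem stalkIdeal_D [IsLocallyNoetherian A] : stalkIdeal (D f c₁ c₂ w) y = ideal c₁ c₂ h₁ h₂ := by
  refine le_antisymm (stalkIdeal_le_of_comap_zq _ y _ ?_) (ideal_le_stalkIdeal f c₁ c₂ w h₁ h₂)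
  rw [comap_eq_bot_iff, zq_comp _ c₁ h₁, zq_comp _ c₂ h₂]
  congr 2
  ext a
  change Ideal.Quotient.mk _ ((sk c₁ h₁).hom a) = Ideal.Quotient.mk _ ((sk c₂ h₂).hom a)
  rw [Ideal.Quotient.eq]
  exact sub_mem_ideal c₁ c₂ h₁ h₂ a

end stalk

/-- The points of the coincidence scheme. -/
theorem apply_eq_of_mem_support {y : A} (hy : y ∈ (D f c₁ c₂ w).support) : c₁ y = c₂ y := by
  obtain ⟨d, rfl⟩ := exists_subscheme_apply_eq _ hy
  have h3 : (D f c₁ c₂ w).subschemeι ≫ c₁ = (D f c₁ c₂ w).subschemeι ≫ c₂ :=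
    (comap_eq_bot_iff f c₁ c₂ w _).1 (comap_subschemeι _)
  rw [← Scheme.Hom.comp_apply, h3, Scheme.Hom.comp_apply]

end Groth.Agent.Sga5.H844.Coinc
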