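import Groth.Agent.Dix.InterNum
import Groth.Agent.Divis.CartierStalk
import Mathlib.RingTheory.LocalRing.Length
import Mathlib.RingTheory.Artinian.Ring
import Mathlib.RingTheory.Spectrum.Prime.Noetherian
import Mathlib.LinearAlgebra.Dimension.Constructions
import Mathlib.FieldTheory.IsAlgClosed.Basic
import Mathlib.AlgebraicGeometry.Morphisms.Finite

/-!
# Lengths and dimensions of finite schemes over an algebraically closed field

* `finrank_eq_length`: `dim_k B = length_B B` for a local finite `k`-algebra `B`;
* `h0_eq_finsum`: `dim_k Γ(Z, O_Z) = ∑_z length(O_{Z,z})` for `Z` finite over `k`;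
* `finrank_quotMod_eq`: `dim_k H^0(X, O_X/I) = ∑_x length(O_{X,x}/I_x)` for an ideal sheaf `I` with finite zero scheme.
-/

set_option autoImplicit false
universe u v
open CategoryTheory CategoryTheory.Limits AlgebraicGeometry Opposite TopologicalSpace IsLocalRing

namespace Groth.Agent.Sga5.H844.FinLen

open Groth.Agent.Divis.CartierBasic Groth.Agent.Divis.CartierStalk Groth.Agent.Dix.InterNum

section alg

theorem length_ringEquiv {R : Type u} {S : Type v} [CommRing R] [CommRing S] (e : R ≃+* S) :
    Module.length R R = Module.length S S := by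
  let _ : Algebra R S := e.toRingHom.toAlgebra
  have h1 : Module.length R S = Module.length S S :=
    Module.length_eq_of_surjective (S := R) (R := S) (M := S) e.surjective
  rw [← h1]
  let e' : R ≃ₗ[R] S :=
    { e.toAddEquiv with
      map_smul' := fun a b => by
        change e (a * b) = e a * e b
        exact map_mul e a b }
  exact e'.length_eq

theorem length_quotient_eq {R : Type u} [CommRing R] (I : Ideal R) :
    Module.length R (R ⧸ I) = Module.length (R ⧸ I) (R ⧸ I) :=
  Module.length_eq_of_surjective (S := R) (R := R ⧸ I) (M := R ⧸ I) Ideal.Quotient.mk_surjective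

variable {k : Type u} [Field k] [IsAlgClosed k] {B : Type v} [CommRing B] [Algebra k B]

theorem finrank_eq_length [IsLocalRing B] [Module.Finite k B] :
    Module.finrank k B = (Module.length B B).toNat := by
  have hloc : IsLocalHom (algebraMap k B) := ⟨fun a ha => by
    by_contra h
    have h0 : a = 0 := by
      by_contra h1
      exact h (IsUnit.mk0 a h1)
    rw [h0, map_zero] at ha
    exact not_isUnit_zero ha⟩
  have h1 : Module.length (ResidueField k) (ResidueField B) = 1 := by
    have h2 : Module.length k (ResidueField B) = Module.length (ResidueField k) (ResidueField B) :=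
      Module.length_eq_of_surjective (S := k) (R := ResidueField k) (M := ResidueField B)
        (residue_surjective (R := k))
    rw [← h2]
    have h3 : Module.Finite k (ResidueField B) :=
      Module.Finite.of_surjective (IsScalarTower.toAlgHom k B (ResidueField B)).toLinearMap
        residue_surjective
    have h4 : Function.Bijective (algebraMap k (ResidueField B)) :=
      IsAlgClosed.algebraMap_bijective_of_isIntegral
    have e : k ≃ₗ[k] ResidueField B := LinearEquiv.ofBijective (Algebra.linearMap k (ResidueField B)) h4
    rw [← e.length_eq, Module.length_eq_finrank, Module.finrank_self]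
    rfl
  have h5 := IsLocalRing.length_restrictScalars k B B
  rw [h1, mul_one] at h5
  rw [← h5, Module.length_eq_finrank]
  rfl

/-- a finite dimensional algebra over a field is the product of its local rings. -/
theorem finrank_eq_finsum_length [Module.Finite k B] :
    Module.finrank k B = ∑ᶠ p : PrimeSpectrum B,
      (Module.length (Localization.AtPrime p.asIdeal) (Localization.AtPrime p.asIdeal)).toNat := by
  classical
  have hart : IsArtinianRing B := IsArtinianRing.of_finite k B
  have hfin : Finite (PrimeSpectrum B) := inferInstance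
  let _ : Fintype (PrimeSpectrum B) := Fintype.ofFinite _
  have hf : ∀ p : PrimeSpectrum B, Module.Finite k (Localization.AtPrime p.asIdeal) := fun p =>
    Module.Finite.of_surjective (IsScalarTower.toAlgHom k B (Localization.AtPrime p.asIdeal)).toLinearMap
      (IsArtinianRing.localization_surjective p.asIdeal.primeCompl _)
  let e : B ≃ₐ[B] PrimeSpectrum.PiLocalization B :=
    AlgEquiv.ofBijective (PrimeSpectrum.toPiLocalization B) PrimeSpectrum.toPiLocalization_bijective
  let e' : B ≃ₗ[k] PrimeSpectrum.PiLocalization B := e.toLinearEquiv.restrictScalars k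
  rw [e'.finrank_eq, finsum_eq_sum_of_fintype]
  refine (Module.finrank_pi_fintype k).trans (Finset.sum_congr rfl fun p _ => ?_)
  exact finrank_eq_length

end alg

section scheme

variable {k : Type u} [Field k] [IsAlgClosed k]

/-- The dimension of the ring of functions of a finite `k`-scheme is the sum of the lengths of its local rings. -/
theorem h0_eq_finsum {Z : Scheme.{u}} (g : Z ⟶ Spec (CommRingCat.of k)) [IsFinite g] :
    h0 g = ∑ᶠ z : Z, (Module.length (Z.presheaf.stalk z) (Z.presheaf.stalk z)).toNat := by
  have haff : IsAffine Z := isAffine_of_isAffineHom g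
  have hU : IsAffineOpen (⊤ : Z.Opens) := isAffineOpen_top Z
  let _ : Algebra k Γ(Z, ⊤) := (glo g).toAlgebra
  have hfin : Module.Finite k Γ(Z, ⊤) := by
    have h1 : (g.appTop).hom.Finite := g.finite_appTop
    have h2 : (Scheme.ΓSpecIso (CommRingCat.of k)).inv.hom.Finite :=
      RingHom.Finite.of_surjective _
        (ConcreteCategory.bijective_of_isIso (Scheme.ΓSpecIso (CommRingCat.of k)).inv).2
    exact h1.comp h2
  have h3 : h0 g = Module.finrank k Γ(Z, ⊤) := rfl
  rw [h3, finrank_eq_finsum_length]
  let φ : Z → PrimeSpectrum Γ(Z, ⊤) := fun z => hU.primeIdealOf ⟨z, trivial⟩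
  have hφ : Function.Bijective φ := by
    constructor
    · intro z z' h
      have h4 := congrArg hU.fromSpec h
      simpa [φ, hU.fromSpec_primeIdealOf] using h4
    · intro p
      refine ⟨hU.fromSpec p, ?_⟩
      have h5 : hU.fromSpec (φ (hU.fromSpec p)) = hU.fromSpec p := hU.fromSpec_primeIdealOf _
      exact hU.fromSpec.isOpenEmbedding.injective h5
  rw [← finsum_comp_equiv (Equiv.ofBijective φ hφ)]
  refine finsum_congr fun z => ?_
  congr 1
  let zz : (⊤ : Z.Opens) := ⟨z, trivial⟩
  let _ : Algebra Γ(Z, ⊤) (Z.presheaf.stalk z) := TopCat.Presheaf.algebra_section_stalk Z.presheaf zz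
  have hloc : IsLocalization.AtPrime (Z.presheaf.stalk z) (φ z).asIdeal := hU.isLocalization_stalk zz
  exact length_ringEquiv (IsLocalization.algEquiv (φ z).asIdeal.primeCompl
    (Localization.AtPrime (φ z).asIdeal) (Z.presheaf.stalk z)).toRingEquiv

theorem length_stalk_quotient {X : Scheme.{u}} (I : X.IdealSheafData) (z : I.subscheme) :
    Module.length (X.presheaf.stalk (I.subschemeι z)) (X.presheaf.stalk (I.subschemeι z) ⧸
      stalkIdeal I (I.subschemeι z)) = Module.length (I.subscheme.presheaf.stalk z) (I.subscheme.presheaf.stalk z) := by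
  rw [length_quotient_eq]
  exact length_ringEquiv (stalkQuotEquiv I z)

theorem finrank_quotMod_eq (X : Scheme.{u}) [X.Over (Spec (CommRingCat.of k))] (I : X.IdealSheafData)
    [IsFinite (I.subschemeι ≫ (X ↘ (Spec (CommRingCat.of k))))] :
    Module.finrank k (Coh.HH X (ClSub.quotMod I) 0) =
      ∑ᶠ x : X, (Module.length (X.presheaf.stalk x) (X.presheaf.stalk x ⧸ stalkIdeal I x)).toNat := by
  rw [finrank_quotMod, h0_eq_finsum]
  have h1 : Function.Injective I.subschemeι := I.subschemeι.isEmbedding.injective
  have h2 : Function.support (fun x : X => (Module.length (X.presheaf.stalk x)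
      (X.presheaf.stalk x ⧸ stalkIdeal I x)).toNat) ⊆ Set.range I.subschemeι := by
    intro x hx
    by_contra h3
    apply hx
    have h4 : x ∉ I.support := by
      rw [Scheme.IdealSheafData.range_subschemeι] at h3
      exact h3
    have h5 := (notMem_support_iff_stalkIdeal_eq_top I x).1 h4
    have h6 : Subsingleton (X.presheaf.stalk x ⧸ stalkIdeal I x) := by
      rw [h5]
      exact Ideal.Quotient.subsingleton_iff.2 rfl
    simp only [Module.length_eq_zero, ENat.toNat_zero]
  rw [← finsum_mem_univ (fun x : X => (Module.length (X.presheaf.stalk x)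
      (X.presheaf.stalk x ⧸ stalkIdeal I x)).toNat),
    finsum_mem_inter_support_eq _ Set.univ (Set.range I.subschemeι)
      (by rw [Set.univ_inter, Set.inter_eq_right.2 h2]), finsum_mem_range h1]
  exact finsum_congr fun z => by rw [length_stalk_quotient]

end scheme

end Groth.Agent.Sga5.H844.FinLen
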